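import Cfsg.Agent.Lib.Lead.Co1P.Chk

/-!
# The first Conway group as a permutation group on 98280 points

The quotient `Co1` of the automorphism group of the lattice by its centre permutes the 98280 pairs `{v, -v}` of minimal
vectors; this action is faithful because the group is simple; the pairs are numbered by the table of representatives, and
the images of five explicit elements are given by tables.
-/

set_option autoImplicit false

namespace Cfsg.Agent.Co1P

open Cfsg Cfsg.Agent.Lib.Helper6.Leech Cfsg.Agent.Lib.Helper6.Golay MulAction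
open Cfsg.Agent.PG (strict strict_eq)

theorem pv_eq (i : ℕ) : pv i = (List.range 24).map fun j => dig (pvN i) j := by
  rw [pv, strict_eq]

theorem pv_length (i : ℕ) : (pv i).length = 24 := by
  rw [pv_eq, List.length_map, List.length_range]

theorem vecOf_negL (x : List ℤ) : vecOf (negL x) = -vecOf x := by
  funext p
  have hp := idx_lt p
  simp only [vecOf, negL, Pi.neg_apply]
  rw [List.getD_eq_getElem?_getD, List.getElem?_map, List.getElem?_range hp]
  rfl

theorem pv_mem {i : ℕ} (hi : i < 98280) : vecOf (pv i) ∈ leechLattice :=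
  mem_leechLattice.mpr (inLeechL_sound _ ((memOK_iff i).1 (chk_mem i hi)).1)

theorem pv_norm {i : ℕ} (hi : i < 98280) : sqNorm (vecOf (pv i)) = 32 :=
  (sqNorm_vecOf _).trans ((memOK_iff i).1 (chk_mem i hi)).2.1

theorem pv_pos {i : ℕ} (hi : i < 98280) : 0 < dotL cL (pv i) := ((memOK_iff i).1 (chk_mem i hi)).2.2

/-- the `i`-th minimal vector -/
noncomputable def pV (i : Fin 98280) : MinVec := ⟨⟨vecOf (pv i.val), pv_mem i.2⟩, pv_norm i.2⟩

theorem pV_val (i : Fin 98280) : (((pV i).1 : leechLattice) : GolayPt → ℤ) = vecOf (pv i.val) := rfl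

/-- the `i`-th pair of opposite minimal vectors -/
noncomputable def pr (i : Fin 98280) : MinPair := mkPair (pV i)

theorem key_lt {i : ℕ} : ∀ {j : ℕ}, i < j → j < 98280 → keyL (pv i) < keyL (pv j) := by
  intro j hij
  induction j, hij using Nat.le_induction with
  | base =>
    intro hj
    exact (incrOK_iff i).1 (chk_incr i (by omega))
  | succ k hk ih =>
    intro hj
    exact lt_trans (ih (by omega)) ((incrOK_iff k).1 (chk_incr k (by omega)))

theorem pv_injective {i j : ℕ} (hi : i < 98280) (hj : j < 98280) (h : pv i = pv j) : i = j := by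
  rcases Nat.lt_trichotomy i j with h1 | h1 | h1
  · exact absurd (congrArg keyL h) (ne_of_lt (key_lt h1 hj))
  · exact h1
  · exact absurd (congrArg keyL h).symm (ne_of_lt (key_lt h1 hi))

theorem dotInt_neg_right (x y : GolayPt → ℤ) : dotInt x (-y) = -dotInt x y := by
  simp [dotInt, Finset.sum_neg_distrib]

theorem pr_injective : Function.Injective pr := by
  intro i j h
  rcases (mkPair_eq_iff (pV i) (pV j)).1 h with h1 | h1
  · have h2 : vecOf (pv j.val) = vecOf (pv i.val) := by
      rw [← pV_val, ← pV_val, h1]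
    have h3 : pv j.val = pv i.val := by
      rw [← listOf_vecOf _ (pv_length j.val), ← listOf_vecOf _ (pv_length i.val), h2]
    exact Fin.ext (pv_injective i.2 j.2 h3.symm)
  · exfalso
    have h2 : vecOf (pv j.val) = -vecOf (pv i.val) := by
      rw [← pV_val, ← pV_val, h1]
      rfl
    have h3 : dotL cL (pv j.val) = -dotL cL (pv i.val) := by
      rw [← dotInt_vecOf, ← dotInt_vecOf, h2, dotInt_neg_right]
    have h4 := pv_pos i.2
    have h5 := pv_pos j.2
    omega

theorem pr_bijective : Function.Bijective pr :=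
  pr_injective.bijective_of_nat_card_le (by rw [card_minPair, Nat.card_fin])

/-- the numbering of the pairs -/
noncomputable def e : Fin 98280 ≃ MinPair := Equiv.ofBijective pr pr_bijective

theorem e_apply (i : Fin 98280) : e i = pr i := rfl

/-- the permutation representation on the numbers of the pairs -/
noncomputable def rho : Co1 →* Equiv.Perm (Fin 98280) :=
  (e.symm.permCongrHom.toMonoidHom).comp (MulAction.toPermHom Co1 MinPair)

theorem rho_apply (g : Co1) (i : Fin 98280) : rho g i = e.symm (g • e i) := rfl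

/-- the element of a valid word acts on the numbers of the pairs by the map `f`, if the check of the word holds -/
theorem acts_of_word (w : List Prim) (hw : ∀ p ∈ w, p.Valid) (f : ℕ → ℕ)
    (h : ∀ i < 98280, actOK w f i = true) : ∃ g : Co1, Cfsg.Agent.PL.Acts (rho g) f := by
  obtain ⟨t, ht⟩ := actW_sound w hw
  refine ⟨QuotientGroup.mk t, ?_⟩
  intro q hq
  obtain ⟨hfq, hcase⟩ := (actOK_iff w f q).1 (h q hq)
  have hv : (((t • pV ⟨q, hq⟩ : MinVec).1 : leechLattice) : GolayPt → ℤ) = vecOf (actW w (pv q)) :=
    ht (pv q) (pv_mem hq)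
  have key : (QuotientGroup.mk t : Co1) • pr ⟨q, hq⟩ = pr ⟨f q, hfq⟩ := by
    rw [pr, co1_mk_smul, smul_mkPair]
    rcases hcase with hc | hc
    · rw [pr]
      congr 1
      apply Subtype.ext
      apply Subtype.ext
      rw [hv, hc]
      rfl
    · rw [pr, ← mkPair_negMin (pV ⟨f q, hfq⟩)]
      congr 1
      apply Subtype.ext
      apply Subtype.ext
      rw [hv, hc, vecOf_negL]
      rfl
  show ((rho (QuotientGroup.mk t) ⟨q, hq⟩ : Fin 98280) : ℕ) = f q
  rw [rho_apply, e_apply, key, ← e_apply, Equiv.symm_apply_apply]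

theorem wA_valid : ∀ p ∈ wA, p.Valid := by
  intro p hp
  rw [wA, List.mem_singleton] at hp
  subst hp
  exact rep_slpPerms [] 0

theorem wG_valid : ∀ p ∈ wG, p.Valid := by
  intro p hp
  rw [wG, List.mem_singleton] at hp
  subst hp
  exact rep_slpPerms [] 1

theorem wD_valid : ∀ p ∈ wD, p.Valid := by
  intro p hp
  rw [wD, List.mem_singleton] at hp
  subst hp
  exact rep_slpPerms [] 2

theorem chk_octad : 13062145 < 2 ^ 24 ∧ inCode 13062145 = true := by decide +kernel

theorem wS_valid : ∀ p ∈ wS, p.Valid := by
  intro p hp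
  rw [wS, List.mem_singleton] at hp
  subst hp
  exact chk_octad

theorem wX_valid : ∀ p ∈ wX, p.Valid := by
  intro p hp
  rw [wX, List.mem_singleton] at hp
  subst hp
  trivial

theorem rho_injective : Function.Injective rho := by
  have : IsSimpleGroup Co1 := isSimpleGroup_co1
  rw [← MonoidHom.ker_eq_bot_iff]
  rcases (rho.normal_ker).eq_bot_or_eq_top with h | h
  · exact h
  · exfalso
    obtain ⟨g, hg⟩ := acts_of_word wA wA_valid flA chk_actA
    have hk : g ∈ rho.ker := by rw [h]; exact Subgroup.mem_top g
    rw [MonoidHom.mem_ker] at hk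
    have h0 := hg 0 (by norm_num)
    rw [hk] at h0
    exact chk_ne h0.symm

/-- the first Conway group on 98280 points -/
noncomputable def P : Subgroup (Equiv.Perm (Fin 98280)) := rho.range

/-- the first Conway group is isomorphic to the permutation group -/
noncomputable def iso : Co1 ≃* ↥P := MonoidHom.ofInjective rho_injective

theorem card_P : Nat.card ↥P = 4157776806543360000 := by
  rw [← card_co1]
  exact (Nat.card_congr iso.toEquiv).symm

theorem rep_of_word (w : List Prim) (hw : ∀ p ∈ w, p.Valid) (f : ℕ → ℕ)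
    (h : ∀ i < 98280, actOK w f i = true) : Cfsg.Agent.PF.Rep P f := by
  obtain ⟨g, hg⟩ := acts_of_word w hw f h
  exact ⟨rho g, ⟨g, rfl⟩, hg⟩

theorem rep_lA : Cfsg.Agent.PF.Rep P flA := rep_of_word wA wA_valid flA chk_actA
theorem rep_lG : Cfsg.Agent.PF.Rep P flG := rep_of_word wG wG_valid flG chk_actG
theorem rep_lD : Cfsg.Agent.PF.Rep P flD := rep_of_word wD wD_valid flD chk_actD
theorem rep_lS : Cfsg.Agent.PF.Rep P flS := rep_of_word wS wS_valid flS chk_actS
theorem rep_lX : Cfsg.Agent.PF.Rep P flX := rep_of_word wX wX_valid flX chk_actX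

end Cfsg.Agent.Co1P
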