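import Cfsg.Agent.Lib.Lead.Co1P.ChkA_0
import Cfsg.Agent.Lib.Lead.Co1P.ChkA_1
import Cfsg.Agent.Lib.Lead.Co1P.ChkA_2
import Cfsg.Agent.Lib.Lead.Co1P.ChkA_3
import Cfsg.Agent.Lib.Lead.Co1P.ChkA_4

/-! # The first Conway group on 98280 points: the action of the letter `α` (generated) -/

set_option autoImplicit false
set_option maxRecDepth 100000

namespace Cfsg.Agent.Co1P

open Cfsg.Agent.PF Cfsg.Agent.Lib.Helper6 Cfsg.Agent.Lib.Helper6.TC Cfsg.Agent.Lib.Helper6.NatArr

theorem chk_actA : ∀ q < 98280, actOK wA flA q = true :=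
  forall_lt_of_chunks (f := fun q => actOK wA flA q) [(0, 1966), (1966, 1966), (3932, 1966), (5898, 1966), (7864, 1966), (9830, 1966), (11796, 1966), (13762, 1966), (15728, 1966), (17694, 1966), (19660, 1966), (21626, 1966), (23592, 1966), (25558, 1966), (27524, 1966), (29490, 1966), (31456, 1966), (33422, 1966), (35388, 1966), (37354, 1966), (39320, 1966), (41286, 1966), (43252, 1966), (45218, 1966), (47184, 1966), (49150, 1966), (51116, 1966), (53082, 1966), (55048, 1966), (57014, 1966), (58980, 1966), (60946, 1966), (62912, 1966), (64878, 1966), (66844, 1966), (68810, 1966), (70776, 1966), (72742, 1966), (74708, 1966), (76674, 1966), (78640, 1966), (80606, 1966), (82572, 1966), (84538, 1966), (86504, 1966), (88470, 1966), (90436, 1966), (92402, 1966), (94368, 1966), (96334, 1946)] (by decide)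
    (all_cons chk_actA_0 (all_cons chk_actA_1 (all_cons chk_actA_2 (all_cons chk_actA_3 (all_cons chk_actA_4 (all_cons chk_actA_5 (all_cons chk_actA_6 (all_cons chk_actA_7 (all_cons chk_actA_8 (all_cons chk_actA_9 (all_cons chk_actA_10 (all_cons chk_actA_11 (all_cons chk_actA_12 (all_cons chk_actA_13 (all_cons chk_actA_14 (all_cons chk_actA_15 (all_cons chk_actA_16 (all_cons chk_actA_17 (all_cons chk_actA_18 (all_cons chk_actA_19 (all_cons chk_actA_20 (all_cons chk_actA_21 (all_cons chk_actA_22 (all_cons chk_actA_23 (all_cons chk_actA_24 (all_cons chk_actA_25 (all_cons chk_actA_26 (all_cons chk_actA_27 (all_cons chk_actA_28 (all_cons chk_actA_29 (all_cons chk_actA_30 (all_cons chk_actA_31 (all_cons chk_actA_32 (all_cons chk_actA_33 (all_cons chk_actA_34 (all_cons chk_actA_35 (all_cons chk_actA_36 (all_cons chk_actA_37 (all_cons chk_actA_38 (all_cons chk_actA_39 (all_cons chk_actA_40 (all_cons chk_actA_41 (all_cons chk_actA_42 (all_cons chk_actA_43 (all_cons chk_actA_44 (all_cons chk_actA_45 (all_cons chk_actA_46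 (all_cons chk_actA_47 (all_cons chk_actA_48 (all_cons chk_actA_49 all_nil))))))))))))))))))))))))))))))))))))))))))))))))))

end Cfsg.Agent.Co1P
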