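import Cfsg.Agent.Lib.Lead.Co1P.Def

/-! # The first Conway group on 98280 points: the action of the letter `δ`, slices (generated) -/

set_option autoImplicit false
set_option Elab.async false
set_option maxRecDepth 100000

namespace Cfsg.Agent.Co1P

open Cfsg.Agent.PF Cfsg.Agent.Lib.Helper6 Cfsg.Agent.Lib.Helper6.TC Cfsg.Agent.Lib.Helper6.NatArr

theorem chk_actD_36 : allR 70776 1966 (fun q => actOK wD flD q) = true := by decide +kernel

theorem chk_actD_37 : allR 72742 1966 (fun q => actOK wD flD q) = true := by decide +kernel

theorem chk_actD_38 : allR 74708 1966 (fun q => actOK wD flD q) = true := by decide +kernel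

theorem chk_actD_39 : allR 76674 1966 (fun q => actOK wD flD q) = true := by decide +kernel

theorem chk_actD_40 : allR 78640 1966 (fun q => actOK wD flD q) = true := by decide +kernel

theorem chk_actD_41 : allR 80606 1966 (fun q => actOK wD flD q) = true := by decide +kernel

theorem chk_actD_42 : allR 82572 1966 (fun q => actOK wD flD q) = true := by decide +kernel

theorem chk_actD_43 : allR 84538 1966 (fun q => actOK wD flD q) = true := by decide +kernel

theorem chk_actD_44 : allR 86504 1966 (fun q => actOK wD flD q) = true := by decide +kernel

theorem chk_actD_45 : allR 88470 1966 (fun q => actOK wD flD q) = true := by decide +kernel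

theorem chk_actD_46 : allR 90436 1966 (fun q => actOK wD flD q) = true := by decide +kernel

theorem chk_actD_47 : allR 92402 1966 (fun q => actOK wD flD q) = true := by decide +kernel


end Cfsg.Agent.Co1P
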