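import Cfsg.Agent.Lib.Lead.Co1P.Def

/-! # The first Conway group on 98280 points: the action of the letter `δ`, slices (generated) -/

set_option autoImplicit false
set_option Elab.async false
set_option maxRecDepth 100000

namespace Cfsg.Agent.Co1P

open Cfsg.Agent.PF Cfsg.Agent.Lib.Helper6 Cfsg.Agent.Lib.Helper6.TC Cfsg.Agent.Lib.Helper6.NatArr

theorem chk_actD_48 : allR 94368 1966 (fun q => actOK wD flD q) = true := by decide +kernel

theorem chk_actD_49 : allR 96334 1946 (fun q => actOK wD flD q) = true := by decide +kernel


end Cfsg.Agent.Co1P
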