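import Cfsg.Agent.Lib.Lead.Co1P.ChkD_0
import Cfsg.Agent.Lib.Lead.Co1P.ChkD_1
import Cfsg.Agent.Lib.Lead.Co1P.ChkD_2
import Cfsg.Agent.Lib.Lead.Co1P.ChkD_3
import Cfsg.Agent.Lib.Lead.Co1P.ChkD_4

/-! # The first Conway group on 98280 points: the action of the letter `δ` (generated) -/

set_option autoImplicit false
set_option maxRecDepth 100000

namespace Cfsg.Agent.Co1P

open Cfsg.Agent.PF Cfsg.Agent.Lib.Helper6 Cfsg.Agent.Lib.Helper6.TC Cfsg.Agent.Lib.Helper6.NatArr

theorem chk_actD : ∀ q < 98280, actOK wD flD q = true :=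
  forall_lt_of_chunks (f := fun q => actOK wD flD q) [(0, 1966), (1966, 1966), (3932, 1966), (5898, 1966), (7864, 1966), (9830, 1966), (11796, 1966), (13762, 1966), (15728, 1966), (17694, 1966), (19660, 1966), (21626, 1966), (23592, 1966), (25558, 1966), (27524, 1966), (29490, 1966), (31456, 1966), (33422, 1966), (35388, 1966), (37354, 1966), (39320, 1966), (41286, 1966), (43252, 1966), (45218, 1966), (47184, 1966), (49150, 1966), (51116, 1966), (53082, 1966), (55048, 1966), (57014, 1966), (58980, 1966), (60946, 1966), (62912, 1966), (64878, 1966), (66844, 1966), (68810, 1966), (70776, 1966), (72742, 1966), (74708, 1966), (76674, 1966), (78640, 1966), (80606, 1966), (82572, 1966), (84538, 1966), (86504, 1966), (88470, 1966), (90436, 1966), (92402, 1966), (94368, 1966), (96334, 1946)] (by decide)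
    (all_cons chk_actD_0 (all_cons chk_actD_1 (all_cons chk_actD_2 (all_cons chk_actD_3 (all_cons chk_actD_4 (all_cons chk_actD_5 (all_cons chk_actD_6 (all_cons chk_actD_7 (all_cons chk_actD_8 (all_cons chk_actD_9 (all_cons chk_actD_10 (all_cons chk_actD_11 (all_cons chk_actD_12 (all_cons chk_actD_13 (all_cons chk_actD_14 (all_cons chk_actD_15 (all_cons chk_actD_16 (all_cons chk_actD_17 (all_cons chk_actD_18 (all_cons chk_actD_19 (all_cons chk_actD_20 (all_cons chk_actD_21 (all_cons chk_actD_22 (all_cons chk_actD_23 (all_cons chk_actD_24 (all_cons chk_actD_25 (all_cons chk_actD_26 (all_cons chk_actD_27 (all_cons chk_actD_28 (all_cons chk_actD_29 (all_cons chk_actD_30 (all_cons chk_actD_31 (all_cons chk_actD_32 (all_cons chk_actD_33 (all_cons chk_actD_34 (all_cons chk_actD_35 (all_cons chk_actD_36 (all_cons chk_actD_37 (all_cons chk_actD_38 (all_cons chk_actD_39 (all_cons chk_actD_40 (all_cons chk_actD_41 (all_cons chk_actD_42 (all_cons chk_actD_43 (all_cons chk_actD_44 (all_cons chk_actD_45 (all_cons chk_actD_46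 (all_cons chk_actD_47 (all_cons chk_actD_48 (all_cons chk_actD_49 all_nil))))))))))))))))))))))))))))))))))))))))))))))))))

end Cfsg.Agent.Co1P
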