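import Cfsg.Agent.Lib.Lead.Co1P.Def

/-! # The first Conway group on 98280 points: the action of the letter `γ`, slices (generated) -/

set_option autoImplicit false
set_option Elab.async false
set_option maxRecDepth 100000

namespace Cfsg.Agent.Co1P

open Cfsg.Agent.PF Cfsg.Agent.Lib.Helper6 Cfsg.Agent.Lib.Helper6.TC Cfsg.Agent.Lib.Helper6.NatArr

theorem chk_actG_12 : allR 23592 1966 (fun q => actOK wG flG q) = true := by decide +kernel

theorem chk_actG_13 : allR 25558 1966 (fun q => actOK wG flG q) = true := by decide +kernel

theorem chk_actG_14 : allR 27524 1966 (fun q => actOK wG flG q) = true := by decide +kernel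

theorem chk_actG_15 : allR 29490 1966 (fun q => actOK wG flG q) = true := by decide +kernel

theorem chk_actG_16 : allR 31456 1966 (fun q => actOK wG flG q) = true := by decide +kernel

theorem chk_actG_17 : allR 33422 1966 (fun q => actOK wG flG q) = true := by decide +kernel

theorem chk_actG_18 : allR 35388 1966 (fun q => actOK wG flG q) = true := by decide +kernel

theorem chk_actG_19 : allR 37354 1966 (fun q => actOK wG flG q) = true := by decide +kernel

theorem chk_actG_20 : allR 39320 1966 (fun q => actOK wG flG q) = true := by decide +kernel

theorem chk_actG_21 : allR 41286 1966 (fun q => actOK wG flG q) = true := by decide +kernel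

theorem chk_actG_22 : allR 43252 1966 (fun q => actOK wG flG q) = true := by decide +kernel

theorem chk_actG_23 : allR 45218 1966 (fun q => actOK wG flG q) = true := by decide +kernel


end Cfsg.Agent.Co1P
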