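import Cfsg.Agent.Lib.Lead.Co1P.Def

/-! # The first Conway group on 98280 points: the action of the letter `γ`, slices (generated) -/

set_option autoImplicit false
set_option Elab.async false
set_option maxRecDepth 100000

namespace Cfsg.Agent.Co1P

open Cfsg.Agent.PF Cfsg.Agent.Lib.Helper6 Cfsg.Agent.Lib.Helper6.TC Cfsg.Agent.Lib.Helper6.NatArr

theorem chk_actG_24 : allR 47184 1966 (fun q => actOK wG flG q) = true := by decide +kernel

theorem chk_actG_25 : allR 49150 1966 (fun q => actOK wG flG q) = true := by decide +kernel

theorem chk_actG_26 : allR 51116 1966 (fun q => actOK wG flG q) = true := by decide +kernel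

theorem chk_actG_27 : allR 53082 1966 (fun q => actOK wG flG q) = true := by decide +kernel

theorem chk_actG_28 : allR 55048 1966 (fun q => actOK wG flG q) = true := by decide +kernel

theorem chk_actG_29 : allR 57014 1966 (fun q => actOK wG flG q) = true := by decide +kernel

theorem chk_actG_30 : allR 58980 1966 (fun q => actOK wG flG q) = true := by decide +kernel

theorem chk_actG_31 : allR 60946 1966 (fun q => actOK wG flG q) = true := by decide +kernel

theorem chk_actG_32 : allR 62912 1966 (fun q => actOK wG flG q) = true := by decide +kernel

theorem chk_actG_33 : allR 64878 1966 (fun q => actOK wG flG q) = true := by decide +kernel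

theorem chk_actG_34 : allR 66844 1966 (fun q => actOK wG flG q) = true := by decide +kernel

theorem chk_actG_35 : allR 68810 1966 (fun q => actOK wG flG q) = true := by decide +kernel


end Cfsg.Agent.Co1P
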