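import Cfsg.Agent.Lib.Lead.Co1P.ChkIncr_0

/-! # The first Conway group on 98280 points: the keys of the representatives increase (generated) -/

set_option autoImplicit false
set_option maxRecDepth 100000

namespace Cfsg.Agent.Co1P

open Cfsg.Agent.PF Cfsg.Agent.Lib.Helper6 Cfsg.Agent.Lib.Helper6.TC Cfsg.Agent.Lib.Helper6.NatArr

theorem chk_incr : ∀ q < 98279, incrOK q = true :=
  forall_lt_of_chunks (f := fun q => incrOK q) [(0, 4914), (4914, 4914), (9828, 4914), (14742, 4914), (19656, 4914), (24570, 4914), (29484, 4914), (34398, 4914), (39312, 4914), (44226, 4914), (49140, 4914), (54054, 4914), (58968, 4914), (63882, 4914), (68796, 4914), (73710, 4914), (78624, 4914), (83538, 4914), (88452, 4914), (93366, 4913)] (by decide)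
    (all_cons chk_incr_0 (all_cons chk_incr_1 (all_cons chk_incr_2 (all_cons chk_incr_3 (all_cons chk_incr_4 (all_cons chk_incr_5 (all_cons chk_incr_6 (all_cons chk_incr_7 (all_cons chk_incr_8 (all_cons chk_incr_9 (all_cons chk_incr_10 (all_cons chk_incr_11 (all_cons chk_incr_12 (all_cons chk_incr_13 (all_cons chk_incr_14 (all_cons chk_incr_15 (all_cons chk_incr_16 (all_cons chk_incr_17 (all_cons chk_incr_18 (all_cons chk_incr_19 all_nil))))))))))))))))))))

end Cfsg.Agent.Co1P
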