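import Cfsg.Agent.Lib.Lead.Co1P.Def

/-! # The first Conway group on 98280 points: the action of the change of signs on an octad, slices (generated) -/

set_option autoImplicit false
set_option Elab.async false
set_option maxRecDepth 100000

namespace Cfsg.Agent.Co1P

open Cfsg.Agent.PF Cfsg.Agent.Lib.Helper6 Cfsg.Agent.Lib.Helper6.TC Cfsg.Agent.Lib.Helper6.NatArr

theorem chk_actS_12 : allR 35748 2979 (fun q => actOK wS flS q) = true := by decide +kernel

theorem chk_actS_13 : allR 38727 2979 (fun q => actOK wS flS q) = true := by decide +kernel

theorem chk_actS_14 : allR 41706 2979 (fun q => actOK wS flS q) = true := by decide +kernel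

theorem chk_actS_15 : allR 44685 2979 (fun q => actOK wS flS q) = true := by decide +kernel

theorem chk_actS_16 : allR 47664 2979 (fun q => actOK wS flS q) = true := by decide +kernel

theorem chk_actS_17 : allR 50643 2979 (fun q => actOK wS flS q) = true := by decide +kernel

theorem chk_actS_18 : allR 53622 2979 (fun q => actOK wS flS q) = true := by decide +kernel

theorem chk_actS_19 : allR 56601 2979 (fun q => actOK wS flS q) = true := by decide +kernel

theorem chk_actS_20 : allR 59580 2979 (fun q => actOK wS flS q) = true := by decide +kernel

theorem chk_actS_21 : allR 62559 2979 (fun q => actOK wS flS q) = true := by decide +kernel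

theorem chk_actS_22 : allR 65538 2979 (fun q => actOK wS flS q) = true := by decide +kernel

theorem chk_actS_23 : allR 68517 2979 (fun q => actOK wS flS q) = true := by decide +kernel


end Cfsg.Agent.Co1P
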