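import Cfsg.Agent.Lib.Lead.Co1P.Def

/-! # The first Conway group on 98280 points: the action of the change of signs on an octad, slices (generated) -/

set_option autoImplicit false
set_option Elab.async false
set_option maxRecDepth 100000

namespace Cfsg.Agent.Co1P

open Cfsg.Agent.PF Cfsg.Agent.Lib.Helper6 Cfsg.Agent.Lib.Helper6.TC Cfsg.Agent.Lib.Helper6.NatArr

theorem chk_actS_24 : allR 71496 2979 (fun q => actOK wS flS q) = true := by decide +kernel

theorem chk_actS_25 : allR 74475 2979 (fun q => actOK wS flS q) = true := by decide +kernel

theorem chk_actS_26 : allR 77454 2979 (fun q => actOK wS flS q) = true := by decide +kernel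

theorem chk_actS_27 : allR 80433 2979 (fun q => actOK wS flS q) = true := by decide +kernel

theorem chk_actS_28 : allR 83412 2979 (fun q => actOK wS flS q) = true := by decide +kernel

theorem chk_actS_29 : allR 86391 2979 (fun q => actOK wS flS q) = true := by decide +kernel

theorem chk_actS_30 : allR 89370 2979 (fun q => actOK wS flS q) = true := by decide +kernel

theorem chk_actS_31 : allR 92349 2979 (fun q => actOK wS flS q) = true := by decide +kernel

theorem chk_actS_32 : allR 95328 2952 (fun q => actOK wS flS q) = true := by decide +kernel


end Cfsg.Agent.Co1P
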