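import Cfsg.Agent.Lib.Lead.Co1P.ChkS_0
import Cfsg.Agent.Lib.Lead.Co1P.ChkS_1
import Cfsg.Agent.Lib.Lead.Co1P.ChkS_2

/-! # The first Conway group on 98280 points: the action of the change of signs on an octad (generated) -/

set_option autoImplicit false
set_option maxRecDepth 100000

namespace Cfsg.Agent.Co1P

open Cfsg.Agent.PF Cfsg.Agent.Lib.Helper6 Cfsg.Agent.Lib.Helper6.TC Cfsg.Agent.Lib.Helper6.NatArr

theorem chk_actS : ∀ q < 98280, actOK wS flS q = true :=
  forall_lt_of_chunks (f := fun q => actOK wS flS q) [(0, 2979), (2979, 2979), (5958, 2979), (8937, 2979), (11916, 2979), (14895, 2979), (17874, 2979), (20853, 2979), (23832, 2979), (26811, 2979), (29790, 2979), (32769, 2979), (35748, 2979), (38727, 2979), (41706, 2979), (44685, 2979), (47664, 2979), (50643, 2979), (53622, 2979), (56601, 2979), (59580, 2979), (62559, 2979), (65538, 2979), (68517, 2979), (71496, 2979), (74475, 2979), (77454, 2979), (80433, 2979), (83412, 2979), (86391, 2979), (89370, 2979), (92349, 2979), (95328, 2952)] (by decide)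
    (all_cons chk_actS_0 (all_cons chk_actS_1 (all_cons chk_actS_2 (all_cons chk_actS_3 (all_cons chk_actS_4 (all_cons chk_actS_5 (all_cons chk_actS_6 (all_cons chk_actS_7 (all_cons chk_actS_8 (all_cons chk_actS_9 (all_cons chk_actS_10 (all_cons chk_actS_11 (all_cons chk_actS_12 (all_cons chk_actS_13 (all_cons chk_actS_14 (all_cons chk_actS_15 (all_cons chk_actS_16 (all_cons chk_actS_17 (all_cons chk_actS_18 (all_cons chk_actS_19 (all_cons chk_actS_20 (all_cons chk_actS_21 (all_cons chk_actS_22 (all_cons chk_actS_23 (all_cons chk_actS_24 (all_cons chk_actS_25 (all_cons chk_actS_26 (all_cons chk_actS_27 (all_cons chk_actS_28 (all_cons chk_actS_29 (all_cons chk_actS_30 (all_cons chk_actS_31 (all_cons chk_actS_32 all_nil)))))))))))))))))))))))))))))))))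

end Cfsg.Agent.Co1P
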