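import Cfsg.Agent.Lib.Lead.Co1P.Def

/-! # The first Conway group on 98280 points: the action of the letter `ξ`, slices (generated) -/

set_option autoImplicit false
set_option Elab.async false
set_option maxRecDepth 100000

namespace Cfsg.Agent.Co1P

open Cfsg.Agent.PF Cfsg.Agent.Lib.Helper6 Cfsg.Agent.Lib.Helper6.TC Cfsg.Agent.Lib.Helper6.NatArr

theorem chk_actX_12 : allR 9600 800 (fun q => actOK wX flX q) = true := by decide +kernel

theorem chk_actX_13 : allR 10400 800 (fun q => actOK wX flX q) = true := by decide +kernel

theorem chk_actX_14 : allR 11200 800 (fun q => actOK wX flX q) = true := by decide +kernel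

theorem chk_actX_15 : allR 12000 800 (fun q => actOK wX flX q) = true := by decide +kernel

theorem chk_actX_16 : allR 12800 800 (fun q => actOK wX flX q) = true := by decide +kernel

theorem chk_actX_17 : allR 13600 800 (fun q => actOK wX flX q) = true := by decide +kernel

theorem chk_actX_18 : allR 14400 800 (fun q => actOK wX flX q) = true := by decide +kernel

theorem chk_actX_19 : allR 15200 800 (fun q => actOK wX flX q) = true := by decide +kernel

theorem chk_actX_20 : allR 16000 800 (fun q => actOK wX flX q) = true := by decide +kernel

theorem chk_actX_21 : allR 16800 800 (fun q => actOK wX flX q) = true := by decide +kernel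

theorem chk_actX_22 : allR 17600 800 (fun q => actOK wX flX q) = true := by decide +kernel

theorem chk_actX_23 : allR 18400 800 (fun q => actOK wX flX q) = true := by decide +kernel


end Cfsg.Agent.Co1P
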