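import Cfsg.Agent.Lib.Lead.Co1P.Def

/-! # The first Conway group on 98280 points: the action of the letter `ξ`, slices (generated) -/

set_option autoImplicit false
set_option Elab.async false
set_option maxRecDepth 100000

namespace Cfsg.Agent.Co1P

open Cfsg.Agent.PF Cfsg.Agent.Lib.Helper6 Cfsg.Agent.Lib.Helper6.TC Cfsg.Agent.Lib.Helper6.NatArr

theorem chk_actX_24 : allR 19200 800 (fun q => actOK wX flX q) = true := by decide +kernel

theorem chk_actX_25 : allR 20000 800 (fun q => actOK wX flX q) = true := by decide +kernel

theorem chk_actX_26 : allR 20800 800 (fun q => actOK wX flX q) = true := by decide +kernel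

theorem chk_actX_27 : allR 21600 800 (fun q => actOK wX flX q) = true := by decide +kernel

theorem chk_actX_28 : allR 22400 800 (fun q => actOK wX flX q) = true := by decide +kernel

theorem chk_actX_29 : allR 23200 800 (fun q => actOK wX flX q) = true := by decide +kernel

theorem chk_actX_30 : allR 24000 800 (fun q => actOK wX flX q) = true := by decide +kernel

theorem chk_actX_31 : allR 24800 800 (fun q => actOK wX flX q) = true := by decide +kernel

theorem chk_actX_32 : allR 25600 800 (fun q => actOK wX flX q) = true := by decide +kernel

theorem chk_actX_33 : allR 26400 800 (fun q => actOK wX flX q) = true := by decide +kernel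

theorem chk_actX_34 : allR 27200 800 (fun q => actOK wX flX q) = true := by decide +kernel

theorem chk_actX_35 : allR 28000 800 (fun q => actOK wX flX q) = true := by decide +kernel


end Cfsg.Agent.Co1P
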