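import Cfsg.Agent.Lib.Lead.Co1P.Def

/-! # The first Conway group on 98280 points: the action of the letter `ξ`, slices (generated) -/

set_option autoImplicit false
set_option Elab.async false
set_option maxRecDepth 100000

namespace Cfsg.Agent.Co1P

open Cfsg.Agent.PF Cfsg.Agent.Lib.Helper6 Cfsg.Agent.Lib.Helper6.TC Cfsg.Agent.Lib.Helper6.NatArr

theorem chk_actX_36 : allR 28800 800 (fun q => actOK wX flX q) = true := by decide +kernel

theorem chk_actX_37 : allR 29600 800 (fun q => actOK wX flX q) = true := by decide +kernel

theorem chk_actX_38 : allR 30400 800 (fun q => actOK wX flX q) = true := by decide +kernel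

theorem chk_actX_39 : allR 31200 800 (fun q => actOK wX flX q) = true := by decide +kernel

theorem chk_actX_40 : allR 32000 800 (fun q => actOK wX flX q) = true := by decide +kernel

theorem chk_actX_41 : allR 32800 800 (fun q => actOK wX flX q) = true := by decide +kernel

theorem chk_actX_42 : allR 33600 800 (fun q => actOK wX flX q) = true := by decide +kernel

theorem chk_actX_43 : allR 34400 800 (fun q => actOK wX flX q) = true := by decide +kernel

theorem chk_actX_44 : allR 35200 800 (fun q => actOK wX flX q) = true := by decide +kernel

theorem chk_actX_45 : allR 36000 800 (fun q => actOK wX flX q) = true := by decide +kernel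

theorem chk_actX_46 : allR 36800 800 (fun q => actOK wX flX q) = true := by decide +kernel

theorem chk_actX_47 : allR 37600 800 (fun q => actOK wX flX q) = true := by decide +kernel


end Cfsg.Agent.Co1P
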