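import Cfsg.Agent.Lib.Lead.Co1P.Def

/-! # The first Conway group on 98280 points: the action of the letter `ξ`, slices (generated) -/

set_option autoImplicit false
set_option Elab.async false
set_option maxRecDepth 100000

namespace Cfsg.Agent.Co1P

open Cfsg.Agent.PF Cfsg.Agent.Lib.Helper6 Cfsg.Agent.Lib.Helper6.TC Cfsg.Agent.Lib.Helper6.NatArr

theorem chk_actX_48 : allR 38400 800 (fun q => actOK wX flX q) = true := by decide +kernel

theorem chk_actX_49 : allR 39200 800 (fun q => actOK wX flX q) = true := by decide +kernel

theorem chk_actX_50 : allR 40000 800 (fun q => actOK wX flX q) = true := by decide +kernel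

theorem chk_actX_51 : allR 40800 800 (fun q => actOK wX flX q) = true := by decide +kernel

theorem chk_actX_52 : allR 41600 800 (fun q => actOK wX flX q) = true := by decide +kernel

theorem chk_actX_53 : allR 42400 800 (fun q => actOK wX flX q) = true := by decide +kernel

theorem chk_actX_54 : allR 43200 800 (fun q => actOK wX flX q) = true := by decide +kernel

theorem chk_actX_55 : allR 44000 800 (fun q => actOK wX flX q) = true := by decide +kernel

theorem chk_actX_56 : allR 44800 800 (fun q => actOK wX flX q) = true := by decide +kernel

theorem chk_actX_57 : allR 45600 800 (fun q => actOK wX flX q) = true := by decide +kernel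

theorem chk_actX_58 : allR 46400 800 (fun q => actOK wX flX q) = true := by decide +kernel

theorem chk_actX_59 : allR 47200 800 (fun q => actOK wX flX q) = true := by decide +kernel


end Cfsg.Agent.Co1P
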