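import Cfsg.Agent.Lib.Lead.Co1P.Def

/-! # The first Conway group on 98280 points: the action of the letter `ξ`, slices (generated) -/

set_option autoImplicit false
set_option Elab.async false
set_option maxRecDepth 100000

namespace Cfsg.Agent.Co1P

open Cfsg.Agent.PF Cfsg.Agent.Lib.Helper6 Cfsg.Agent.Lib.Helper6.TC Cfsg.Agent.Lib.Helper6.NatArr

theorem chk_actX_60 : allR 48000 800 (fun q => actOK wX flX q) = true := by decide +kernel

theorem chk_actX_61 : allR 48800 800 (fun q => actOK wX flX q) = true := by decide +kernel

theorem chk_actX_62 : allR 49600 800 (fun q => actOK wX flX q) = true := by decide +kernel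

theorem chk_actX_63 : allR 50400 800 (fun q => actOK wX flX q) = true := by decide +kernel

theorem chk_actX_64 : allR 51200 800 (fun q => actOK wX flX q) = true := by decide +kernel

theorem chk_actX_65 : allR 52000 800 (fun q => actOK wX flX q) = true := by decide +kernel

theorem chk_actX_66 : allR 52800 800 (fun q => actOK wX flX q) = true := by decide +kernel

theorem chk_actX_67 : allR 53600 800 (fun q => actOK wX flX q) = true := by decide +kernel

theorem chk_actX_68 : allR 54400 800 (fun q => actOK wX flX q) = true := by decide +kernel

theorem chk_actX_69 : allR 55200 800 (fun q => actOK wX flX q) = true := by decide +kernel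

theorem chk_actX_70 : allR 56000 800 (fun q => actOK wX flX q) = true := by decide +kernel

theorem chk_actX_71 : allR 56800 800 (fun q => actOK wX flX q) = true := by decide +kernel


end Cfsg.Agent.Co1P
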