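import Cfsg.Agent.Lib.Lead.Co1P.Def

/-! # The first Conway group on 98280 points: the action of the letter `ξ`, slices (generated) -/

set_option autoImplicit false
set_option Elab.async false
set_option maxRecDepth 100000

namespace Cfsg.Agent.Co1P

open Cfsg.Agent.PF Cfsg.Agent.Lib.Helper6 Cfsg.Agent.Lib.Helper6.TC Cfsg.Agent.Lib.Helper6.NatArr

theorem chk_actX_72 : allR 57600 800 (fun q => actOK wX flX q) = true := by decide +kernel

theorem chk_actX_73 : allR 58400 800 (fun q => actOK wX flX q) = true := by decide +kernel

theorem chk_actX_74 : allR 59200 800 (fun q => actOK wX flX q) = true := by decide +kernel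

theorem chk_actX_75 : allR 60000 800 (fun q => actOK wX flX q) = true := by decide +kernel

theorem chk_actX_76 : allR 60800 800 (fun q => actOK wX flX q) = true := by decide +kernel

theorem chk_actX_77 : allR 61600 800 (fun q => actOK wX flX q) = true := by decide +kernel

theorem chk_actX_78 : allR 62400 800 (fun q => actOK wX flX q) = true := by decide +kernel

theorem chk_actX_79 : allR 63200 800 (fun q => actOK wX flX q) = true := by decide +kernel

theorem chk_actX_80 : allR 64000 800 (fun q => actOK wX flX q) = true := by decide +kernel

theorem chk_actX_81 : allR 64800 800 (fun q => actOK wX flX q) = true := by decide +kernel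

theorem chk_actX_82 : allR 65600 800 (fun q => actOK wX flX q) = true := by decide +kernel

theorem chk_actX_83 : allR 66400 800 (fun q => actOK wX flX q) = true := by decide +kernel


end Cfsg.Agent.Co1P
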