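import Cfsg.Agent.Lib.Lead.Co1P.Def

/-! # The first Conway group on 98280 points: the action of the letter `ξ`, slices (generated) -/

set_option autoImplicit false
set_option Elab.async false
set_option maxRecDepth 100000

namespace Cfsg.Agent.Co1P

open Cfsg.Agent.PF Cfsg.Agent.Lib.Helper6 Cfsg.Agent.Lib.Helper6.TC Cfsg.Agent.Lib.Helper6.NatArr

theorem chk_actX_84 : allR 67200 800 (fun q => actOK wX flX q) = true := by decide +kernel

theorem chk_actX_85 : allR 68000 800 (fun q => actOK wX flX q) = true := by decide +kernel

theorem chk_actX_86 : allR 68800 800 (fun q => actOK wX flX q) = true := by decide +kernel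

theorem chk_actX_87 : allR 69600 800 (fun q => actOK wX flX q) = true := by decide +kernel

theorem chk_actX_88 : allR 70400 800 (fun q => actOK wX flX q) = true := by decide +kernel

theorem chk_actX_89 : allR 71200 800 (fun q => actOK wX flX q) = true := by decide +kernel

theorem chk_actX_90 : allR 72000 800 (fun q => actOK wX flX q) = true := by decide +kernel

theorem chk_actX_91 : allR 72800 800 (fun q => actOK wX flX q) = true := by decide +kernel

theorem chk_actX_92 : allR 73600 800 (fun q => actOK wX flX q) = true := by decide +kernel

theorem chk_actX_93 : allR 74400 800 (fun q => actOK wX flX q) = true := by decide +kernel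

theorem chk_actX_94 : allR 75200 800 (fun q => actOK wX flX q) = true := by decide +kernel

theorem chk_actX_95 : allR 76000 800 (fun q => actOK wX flX q) = true := by decide +kernel


end Cfsg.Agent.Co1P
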