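import Cfsg.Agent.Lib.Lead.Co1P.Def

/-! # The first Conway group on 98280 points: the action of the letter `ξ`, slices (generated) -/

set_option autoImplicit false
set_option Elab.async false
set_option maxRecDepth 100000

namespace Cfsg.Agent.Co1P

open Cfsg.Agent.PF Cfsg.Agent.Lib.Helper6 Cfsg.Agent.Lib.Helper6.TC Cfsg.Agent.Lib.Helper6.NatArr

theorem chk_actX_96 : allR 76800 800 (fun q => actOK wX flX q) = true := by decide +kernel

theorem chk_actX_97 : allR 77600 800 (fun q => actOK wX flX q) = true := by decide +kernel

theorem chk_actX_98 : allR 78400 800 (fun q => actOK wX flX q) = true := by decide +kernel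

theorem chk_actX_99 : allR 79200 800 (fun q => actOK wX flX q) = true := by decide +kernel

theorem chk_actX_100 : allR 80000 800 (fun q => actOK wX flX q) = true := by decide +kernel

theorem chk_actX_101 : allR 80800 800 (fun q => actOK wX flX q) = true := by decide +kernel

theorem chk_actX_102 : allR 81600 800 (fun q => actOK wX flX q) = true := by decide +kernel

theorem chk_actX_103 : allR 82400 800 (fun q => actOK wX flX q) = true := by decide +kernel

theorem chk_actX_104 : allR 83200 800 (fun q => actOK wX flX q) = true := by decide +kernel

theorem chk_actX_105 : allR 84000 800 (fun q => actOK wX flX q) = true := by decide +kernel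

theorem chk_actX_106 : allR 84800 800 (fun q => actOK wX flX q) = true := by decide +kernel

theorem chk_actX_107 : allR 85600 800 (fun q => actOK wX flX q) = true := by decide +kernel


end Cfsg.Agent.Co1P
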