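import Cfsg.Agent.Lib.Lead.Co1P.Def

/-! # The first Conway group on 98280 points: the action of the letter `ξ`, slices (generated) -/

set_option autoImplicit false
set_option Elab.async false
set_option maxRecDepth 100000

namespace Cfsg.Agent.Co1P

open Cfsg.Agent.PF Cfsg.Agent.Lib.Helper6 Cfsg.Agent.Lib.Helper6.TC Cfsg.Agent.Lib.Helper6.NatArr

theorem chk_actX_108 : allR 86400 800 (fun q => actOK wX flX q) = true := by decide +kernel

theorem chk_actX_109 : allR 87200 800 (fun q => actOK wX flX q) = true := by decide +kernel

theorem chk_actX_110 : allR 88000 800 (fun q => actOK wX flX q) = true := by decide +kernel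

theorem chk_actX_111 : allR 88800 800 (fun q => actOK wX flX q) = true := by decide +kernel

theorem chk_actX_112 : allR 89600 800 (fun q => actOK wX flX q) = true := by decide +kernel

theorem chk_actX_113 : allR 90400 800 (fun q => actOK wX flX q) = true := by decide +kernel

theorem chk_actX_114 : allR 91200 800 (fun q => actOK wX flX q) = true := by decide +kernel

theorem chk_actX_115 : allR 92000 800 (fun q => actOK wX flX q) = true := by decide +kernel

theorem chk_actX_116 : allR 92800 800 (fun q => actOK wX flX q) = true := by decide +kernel

theorem chk_actX_117 : allR 93600 800 (fun q => actOK wX flX q) = true := by decide +kernel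

theorem chk_actX_118 : allR 94400 800 (fun q => actOK wX flX q) = true := by decide +kernel

theorem chk_actX_119 : allR 95200 800 (fun q => actOK wX flX q) = true := by decide +kernel


end Cfsg.Agent.Co1P
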