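import Cfsg.Agent.Lib.Lead.Co1P.ChkX_0
import Cfsg.Agent.Lib.Lead.Co1P.ChkX_1
import Cfsg.Agent.Lib.Lead.Co1P.ChkX_2
import Cfsg.Agent.Lib.Lead.Co1P.ChkX_3
import Cfsg.Agent.Lib.Lead.Co1P.ChkX_4
import Cfsg.Agent.Lib.Lead.Co1P.ChkX_5
import Cfsg.Agent.Lib.Lead.Co1P.ChkX_6
import Cfsg.Agent.Lib.Lead.Co1P.ChkX_7
import Cfsg.Agent.Lib.Lead.Co1P.ChkX_8
import Cfsg.Agent.Lib.Lead.Co1P.ChkX_9
import Cfsg.Agent.Lib.Lead.Co1P.ChkX_10

/-! # The first Conway group on 98280 points: the action of the letter `ξ` (generated) -/

set_option autoImplicit false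
set_option maxRecDepth 100000

namespace Cfsg.Agent.Co1P

open Cfsg.Agent.PF Cfsg.Agent.Lib.Helper6 Cfsg.Agent.Lib.Helper6.TC Cfsg.Agent.Lib.Helper6.NatArr

theorem chk_actX : ∀ q < 98280, actOK wX flX q = true :=
  forall_lt_of_chunks (f := fun q => actOK wX flX q) [(0, 800), (800, 800), (1600, 800), (2400, 800), (3200, 800), (4000, 800), (4800, 800), (5600, 800), (6400, 800), (7200, 800), (8000, 800), (8800, 800), (9600, 800), (10400, 800), (11200, 800), (12000, 800), (12800, 800), (13600, 800), (14400, 800), (15200, 800), (16000, 800), (16800, 800), (17600, 800), (18400, 800), (19200, 800), (20000, 800), (20800, 800), (21600, 800), (22400, 800), (23200, 800), (24000, 800), (24800, 800), (25600, 800), (26400, 800), (27200, 800), (28000, 800), (28800, 800), (29600, 800), (30400, 800), (31200, 800), (32000, 800), (32800, 800), (33600, 800), (34400, 800), (35200, 800), (36000, 800), (36800, 800), (37600, 800), (38400, 800), (39200, 800), (40000, 800), (40800, 800), (41600, 800), (42400, 800), (43200, 800), (44000, 800), (44800, 800),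 (45600, 800), (46400, 800), (47200, 800), (48000, 800), (48800, 800), (49600, 800), (50400, 800), (51200, 800), (52000, 800), (52800, 800), (53600, 800), (54400, 800), (55200, 800), (56000, 800), (56800, 800), (57600, 800), (58400, 800), (59200, 800), (60000, 800), (60800, 800), (61600, 800), (62400, 800), (63200, 800), (64000, 800), (64800, 800), (65600, 800), (66400, 800), (67200, 800), (68000, 800), (68800, 800), (69600, 800), (70400, 800), (71200, 800), (72000, 800), (72800, 800), (73600, 800), (74400, 800), (75200, 800), (76000, 800), (76800, 800), (77600, 800), (78400, 800), (79200, 800), (80000, 800), (80800, 800), (81600, 800), (82400, 800), (83200, 800), (84000, 800), (84800, 800), (85600, 800), (86400, 800), (87200, 800), (88000, 800), (88800, 800), (89600, 800), (90400, 800), (91200, 800), (92000, 800), (92800, 800), (93600, 800), (94400, 800), (95200, 800), (96000, 800), (96800, 800), (97600, 680)] (by decide)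
    (all_cons chk_actX_0 (all_cons chk_actX_1 (all_cons chk_actX_2 (all_cons chk_actX_3 (all_cons chk_actX_4 (all_cons chk_actX_5 (all_cons chk_actX_6 (all_cons chk_actX_7 (all_cons chk_actX_8 (all_cons chk_actX_9 (all_cons chk_actX_10 (all_cons chk_actX_11 (all_cons chk_actX_12 (all_cons chk_actX_13 (all_cons chk_actX_14 (all_cons chk_actX_15 (all_cons chk_actX_16 (all_cons chk_actX_17 (all_cons chk_actX_18 (all_cons chk_actX_19 (all_cons chk_actX_20 (all_cons chk_actX_21 (all_cons chk_actX_22 (all_cons chk_actX_23 (all_cons chk_actX_24 (all_cons chk_actX_25 (all_cons chk_actX_26 (all_cons chk_actX_27 (all_cons chk_actX_28 (all_cons chk_actX_29 (all_cons chk_actX_30 (all_cons chk_actX_31 (all_cons chk_actX_32 (all_cons chk_actX_33 (all_cons chk_actX_34 (all_cons chk_actX_35 (all_cons chk_actX_36 (all_cons chk_actX_37 (all_cons chk_actX_38 (all_cons chk_actX_39 (all_cons chk_actX_40 (all_cons chk_actX_41 (all_cons chk_actX_42 (all_cons chk_actX_43 (all_cons chk_actX_44 (all_cons chk_actX_45 (all_cons chk_actX_46 (all_cons chk_actX_47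 (all_cons chk_actX_48 (all_cons chk_actX_49 (all_cons chk_actX_50 (all_cons chk_actX_51 (all_cons chk_actX_52 (all_cons chk_actX_53 (all_cons chk_actX_54 (all_cons chk_actX_55 (all_cons chk_actX_56 (all_cons chk_actX_57 (all_cons chk_actX_58 (all_cons chk_actX_59 (all_cons chk_actX_60 (all_cons chk_actX_61 (all_cons chk_actX_62 (all_cons chk_actX_63 (all_cons chk_actX_64 (all_cons chk_actX_65 (all_cons chk_actX_66 (all_cons chk_actX_67 (all_cons chk_actX_68 (all_cons chk_actX_69 (all_cons chk_actX_70 (all_cons chk_actX_71 (all_cons chk_actX_72 (all_cons chk_actX_73 (all_cons chk_actX_74 (all_cons chk_actX_75 (all_cons chk_actX_76 (all_cons chk_actX_77 (all_cons chk_actX_78 (all_cons chk_actX_79 (all_cons chk_actX_80 (all_cons chk_actX_81 (all_cons chk_actX_82 (all_cons chk_actX_83 (all_cons chk_actX_84 (all_cons chk_actX_85 (all_cons chk_actX_86 (all_cons chk_actX_87 (all_cons chk_actX_88 (all_cons chk_actX_89 (all_cons chk_actX_90 (all_cons chk_actX_91 (all_cons chk_actX_92 (all_cons chk_actX_93 (all_cons chk_actX_94 (all_cons chk_actX_95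 (all_cons chk_actX_96 (all_cons chk_actX_97 (all_cons chk_actX_98 (all_cons chk_actX_99 (all_cons chk_actX_100 (all_cons chk_actX_101 (all_cons chk_actX_102 (all_cons chk_actX_103 (all_cons chk_actX_104 (all_cons chk_actX_105 (all_cons chk_actX_106 (all_cons chk_actX_107 (all_cons chk_actX_108 (all_cons chk_actX_109 (all_cons chk_actX_110 (all_cons chk_actX_111 (all_cons chk_actX_112 (all_cons chk_actX_113 (all_cons chk_actX_114 (all_cons chk_actX_115 (all_cons chk_actX_116 (all_cons chk_actX_117 (all_cons chk_actX_118 (all_cons chk_actX_119 (all_cons chk_actX_120 (all_cons chk_actX_121 (all_cons chk_actX_122 all_nil)))))))))))))))))))))))))))))))))))))))))))))))))))))))))))))))))))))))))))))))))))))))))))))))))))))))))))))))))))))))))))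

end Cfsg.Agent.Co1P
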