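import Cfsg.Agent.Lib.Lead.Co1P.ChkMem
import Cfsg.Agent.Lib.Lead.Co1P.ChkIncr
import Cfsg.Agent.Lib.Lead.Co1P.ChkA
import Cfsg.Agent.Lib.Lead.Co1P.ChkG
import Cfsg.Agent.Lib.Lead.Co1P.ChkD
import Cfsg.Agent.Lib.Lead.Co1P.ChkS
import Cfsg.Agent.Lib.Lead.Co1P.ChkX
import Cfsg.Agent.Lib.Lead.Co1P.ChkNe

/-! # The first Conway group on 98280 points: all the checks of the action on the lattice (generated) -/

set_option autoImplicit false
set_option maxRecDepth 100000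

namespace Cfsg.Agent.Co1P

open Cfsg.Agent.PF Cfsg.Agent.Lib.Helper6 Cfsg.Agent.Lib.Helper6.TC Cfsg.Agent.Lib.Helper6.NatArr


end Cfsg.Agent.Co1P
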