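import Cfsg.Agent.Lib.Lead.Co1P.Def

/-! # The first Conway group on 98280 points: the action of the letter `δ`, slices (generated) -/

set_option autoImplicit false
set_option Elab.async false
set_option maxRecDepth 100000

namespace Cfsg.Agent.Co1P

open Cfsg.Agent.PF Cfsg.Agent.Lib.Helper6 Cfsg.Agent.Lib.Helper6.TC Cfsg.Agent.Lib.Helper6.NatArr

theorem chk_actD_0 : allR 0 1966 (fun q => actOK wD flD q) = true := by decide +kernel

theorem chk_actD_1 : allR 1966 1966 (fun q => actOK wD flD q) = true := by decide +kernel

theorem chk_actD_2 : allR 3932 1966 (fun q => actOK wD flD q) = true := by decide +kernel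

theorem chk_actD_3 : allR 5898 1966 (fun q => actOK wD flD q) = true := by decide +kernel

theorem chk_actD_4 : allR 7864 1966 (fun q => actOK wD flD q) = true := by decide +kernel

theorem chk_actD_5 : allR 9830 1966 (fun q => actOK wD flD q) = true := by decide +kernel

theorem chk_actD_6 : allR 11796 1966 (fun q => actOK wD flD q) = true := by decide +kernel

theorem chk_actD_7 : allR 13762 1966 (fun q => actOK wD flD q) = true := by decide +kernel

theorem chk_actD_8 : allR 15728 1966 (fun q => actOK wD flD q) = true := by decide +kernel

theorem chk_actD_9 : allR 17694 1966 (fun q => actOK wD flD q) = true := by decide +kernel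

theorem chk_actD_10 : allR 19660 1966 (fun q => actOK wD flD q) = true := by decide +kernel

theorem chk_actD_11 : allR 21626 1966 (fun q => actOK wD flD q) = true := by decide +kernel


end Cfsg.Agent.Co1P
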