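import Cfsg.Agent.Lib.Lead.Co1P.Def

/-! # The first Conway group on 98280 points: the keys of the representatives increase, slices (generated) -/

set_option autoImplicit false
set_option Elab.async false
set_option maxRecDepth 100000

namespace Cfsg.Agent.Co1P

open Cfsg.Agent.PF Cfsg.Agent.Lib.Helper6 Cfsg.Agent.Lib.Helper6.TC Cfsg.Agent.Lib.Helper6.NatArr

theorem chk_incr_0 : allR 0 4914 (fun q => incrOK q) = true := by decide +kernel

theorem chk_incr_1 : allR 4914 4914 (fun q => incrOK q) = true := by decide +kernel

theorem chk_incr_2 : allR 9828 4914 (fun q => incrOK q) = true := by decide +kernel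

theorem chk_incr_3 : allR 14742 4914 (fun q => incrOK q) = true := by decide +kernel

theorem chk_incr_4 : allR 19656 4914 (fun q => incrOK q) = true := by decide +kernel

theorem chk_incr_5 : allR 24570 4914 (fun q => incrOK q) = true := by decide +kernel

theorem chk_incr_6 : allR 29484 4914 (fun q => incrOK q) = true := by decide +kernel

theorem chk_incr_7 : allR 34398 4914 (fun q => incrOK q) = true := by decide +kernel

theorem chk_incr_8 : allR 39312 4914 (fun q => incrOK q) = true := by decide +kernel

theorem chk_incr_9 : allR 44226 4914 (fun q => incrOK q) = true := by decide +kernel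

theorem chk_incr_10 : allR 49140 4914 (fun q => incrOK q) = true := by decide +kernel

theorem chk_incr_11 : allR 54054 4914 (fun q => incrOK q) = true := by decide +kernel

theorem chk_incr_12 : allR 58968 4914 (fun q => incrOK q) = true := by decide +kernel

theorem chk_incr_13 : allR 63882 4914 (fun q => incrOK q) = true := by decide +kernel

theorem chk_incr_14 : allR 68796 4914 (fun q => incrOK q) = true := by decide +kernel

theorem chk_incr_15 : allR 73710 4914 (fun q => incrOK q) = true := by decide +kernel

theorem chk_incr_16 : allR 78624 4914 (fun q => incrOK q) = true := by decide +kernel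

theorem chk_incr_17 : allR 83538 4914 (fun q => incrOK q) = true := by decide +kernel

theorem chk_incr_18 : allR 88452 4914 (fun q => incrOK q) = true := by decide +kernel

theorem chk_incr_19 : allR 93366 4913 (fun q => incrOK q) = true := by decide +kernel


end Cfsg.Agent.Co1P
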