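import Cfsg.Agent.Lib.Lead.Co1P.Def

/-! # The first Conway group on 98280 points: the representatives are minimal vectors of the lattice, slices (generated) -/

set_option autoImplicit false
set_option Elab.async false
set_option maxRecDepth 100000

namespace Cfsg.Agent.Co1P

open Cfsg.Agent.PF Cfsg.Agent.Lib.Helper6 Cfsg.Agent.Lib.Helper6.TC Cfsg.Agent.Lib.Helper6.NatArr

theorem chk_mem_12 : allR 7200 600 (fun q => memOK q) = true := by decide +kernel

theorem chk_mem_13 : allR 7800 600 (fun q => memOK q) = true := by decide +kernel

theorem chk_mem_14 : allR 8400 600 (fun q => memOK q) = true := by decide +kernel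

theorem chk_mem_15 : allR 9000 600 (fun q => memOK q) = true := by decide +kernel

theorem chk_mem_16 : allR 9600 600 (fun q => memOK q) = true := by decide +kernel

theorem chk_mem_17 : allR 10200 600 (fun q => memOK q) = true := by decide +kernel

theorem chk_mem_18 : allR 10800 600 (fun q => memOK q) = true := by decide +kernel

theorem chk_mem_19 : allR 11400 600 (fun q => memOK q) = true := by decide +kernel

theorem chk_mem_20 : allR 12000 600 (fun q => memOK q) = true := by decide +kernel

theorem chk_mem_21 : allR 12600 600 (fun q => memOK q) = true := by decide +kernel

theorem chk_mem_22 : allR 13200 600 (fun q => memOK q) = true := by decide +kernel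

theorem chk_mem_23 : allR 13800 600 (fun q => memOK q) = true := by decide +kernel


end Cfsg.Agent.Co1P
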