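import Cfsg.Agent.Lib.Lead.Co1P.Def

/-! # The first Conway group on 98280 points: the representatives are minimal vectors of the lattice, slices (generated) -/

set_option autoImplicit false
set_option Elab.async false
set_option maxRecDepth 100000

namespace Cfsg.Agent.Co1P

open Cfsg.Agent.PF Cfsg.Agent.Lib.Helper6 Cfsg.Agent.Lib.Helper6.TC Cfsg.Agent.Lib.Helper6.NatArr

theorem chk_mem_120 : allR 72000 600 (fun q => memOK q) = true := by decide +kernel

theorem chk_mem_121 : allR 72600 600 (fun q => memOK q) = true := by decide +kernel

theorem chk_mem_122 : allR 73200 600 (fun q => memOK q) = true := by decide +kernel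

theorem chk_mem_123 : allR 73800 600 (fun q => memOK q) = true := by decide +kernel

theorem chk_mem_124 : allR 74400 600 (fun q => memOK q) = true := by decide +kernel

theorem chk_mem_125 : allR 75000 600 (fun q => memOK q) = true := by decide +kernel

theorem chk_mem_126 : allR 75600 600 (fun q => memOK q) = true := by decide +kernel

theorem chk_mem_127 : allR 76200 600 (fun q => memOK q) = true := by decide +kernel

theorem chk_mem_128 : allR 76800 600 (fun q => memOK q) = true := by decide +kernel

theorem chk_mem_129 : allR 77400 600 (fun q => memOK q) = true := by decide +kernel

theorem chk_mem_130 : allR 78000 600 (fun q => memOK q) = true := by decide +kernel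

theorem chk_mem_131 : allR 78600 600 (fun q => memOK q) = true := by decide +kernel


end Cfsg.Agent.Co1P
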