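import Cfsg.Agent.Lib.Lead.Co1P.Def

/-! # The first Conway group on 98280 points: the representatives are minimal vectors of the lattice, slices (generated) -/

set_option autoImplicit false
set_option Elab.async false
set_option maxRecDepth 100000

namespace Cfsg.Agent.Co1P

open Cfsg.Agent.PF Cfsg.Agent.Lib.Helper6 Cfsg.Agent.Lib.Helper6.TC Cfsg.Agent.Lib.Helper6.NatArr

theorem chk_mem_132 : allR 79200 600 (fun q => memOK q) = true := by decide +kernel

theorem chk_mem_133 : allR 79800 600 (fun q => memOK q) = true := by decide +kernel

theorem chk_mem_134 : allR 80400 600 (fun q => memOK q) = true := by decide +kernel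

theorem chk_mem_135 : allR 81000 600 (fun q => memOK q) = true := by decide +kernel

theorem chk_mem_136 : allR 81600 600 (fun q => memOK q) = true := by decide +kernel

theorem chk_mem_137 : allR 82200 600 (fun q => memOK q) = true := by decide +kernel

theorem chk_mem_138 : allR 82800 600 (fun q => memOK q) = true := by decide +kernel

theorem chk_mem_139 : allR 83400 600 (fun q => memOK q) = true := by decide +kernel

theorem chk_mem_140 : allR 84000 600 (fun q => memOK q) = true := by decide +kernel

theorem chk_mem_141 : allR 84600 600 (fun q => memOK q) = true := by decide +kernel

theorem chk_mem_142 : allR 85200 600 (fun q => memOK q) = true := by decide +kernel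

theorem chk_mem_143 : allR 85800 600 (fun q => memOK q) = true := by decide +kernel


end Cfsg.Agent.Co1P
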