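import Cfsg.Agent.Lib.Lead.Co1P.Def

/-! # The first Conway group on 98280 points: the representatives are minimal vectors of the lattice, slices (generated) -/

set_option autoImplicit false
set_option Elab.async false
set_option maxRecDepth 100000

namespace Cfsg.Agent.Co1P

open Cfsg.Agent.PF Cfsg.Agent.Lib.Helper6 Cfsg.Agent.Lib.Helper6.TC Cfsg.Agent.Lib.Helper6.NatArr

theorem chk_mem_24 : allR 14400 600 (fun q => memOK q) = true := by decide +kernel

theorem chk_mem_25 : allR 15000 600 (fun q => memOK q) = true := by decide +kernel

theorem chk_mem_26 : allR 15600 600 (fun q => memOK q) = true := by decide +kernel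

theorem chk_mem_27 : allR 16200 600 (fun q => memOK q) = true := by decide +kernel

theorem chk_mem_28 : allR 16800 600 (fun q => memOK q) = true := by decide +kernel

theorem chk_mem_29 : allR 17400 600 (fun q => memOK q) = true := by decide +kernel

theorem chk_mem_30 : allR 18000 600 (fun q => memOK q) = true := by decide +kernel

theorem chk_mem_31 : allR 18600 600 (fun q => memOK q) = true := by decide +kernel

theorem chk_mem_32 : allR 19200 600 (fun q => memOK q) = true := by decide +kernel

theorem chk_mem_33 : allR 19800 600 (fun q => memOK q) = true := by decide +kernel

theorem chk_mem_34 : allR 20400 600 (fun q => memOK q) = true := by decide +kernel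

theorem chk_mem_35 : allR 21000 600 (fun q => memOK q) = true := by decide +kernel


end Cfsg.Agent.Co1P
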