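import Cfsg.Agent.Lib.Lead.Co1P.Def

/-! # The first Conway group on 98280 points: the representatives are minimal vectors of the lattice, slices (generated) -/

set_option autoImplicit false
set_option Elab.async false
set_option maxRecDepth 100000

namespace Cfsg.Agent.Co1P

open Cfsg.Agent.PF Cfsg.Agent.Lib.Helper6 Cfsg.Agent.Lib.Helper6.TC Cfsg.Agent.Lib.Helper6.NatArr

theorem chk_mem_36 : allR 21600 600 (fun q => memOK q) = true := by decide +kernel

theorem chk_mem_37 : allR 22200 600 (fun q => memOK q) = true := by decide +kernel

theorem chk_mem_38 : allR 22800 600 (fun q => memOK q) = true := by decide +kernel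

theorem chk_mem_39 : allR 23400 600 (fun q => memOK q) = true := by decide +kernel

theorem chk_mem_40 : allR 24000 600 (fun q => memOK q) = true := by decide +kernel

theorem chk_mem_41 : allR 24600 600 (fun q => memOK q) = true := by decide +kernel

theorem chk_mem_42 : allR 25200 600 (fun q => memOK q) = true := by decide +kernel

theorem chk_mem_43 : allR 25800 600 (fun q => memOK q) = true := by decide +kernel

theorem chk_mem_44 : allR 26400 600 (fun q => memOK q) = true := by decide +kernel

theorem chk_mem_45 : allR 27000 600 (fun q => memOK q) = true := by decide +kernel

theorem chk_mem_46 : allR 27600 600 (fun q => memOK q) = true := by decide +kernel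

theorem chk_mem_47 : allR 28200 600 (fun q => memOK q) = true := by decide +kernel


end Cfsg.Agent.Co1P
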