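import Cfsg.Agent.Lib.Lead.Co1P.Def

/-! # The first Conway group on 98280 points: the representatives are minimal vectors of the lattice, slices (generated) -/

set_option autoImplicit false
set_option Elab.async false
set_option maxRecDepth 100000

namespace Cfsg.Agent.Co1P

open Cfsg.Agent.PF Cfsg.Agent.Lib.Helper6 Cfsg.Agent.Lib.Helper6.TC Cfsg.Agent.Lib.Helper6.NatArr

theorem chk_mem_48 : allR 28800 600 (fun q => memOK q) = true := by decide +kernel

theorem chk_mem_49 : allR 29400 600 (fun q => memOK q) = true := by decide +kernel

theorem chk_mem_50 : allR 30000 600 (fun q => memOK q) = true := by decide +kernel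

theorem chk_mem_51 : allR 30600 600 (fun q => memOK q) = true := by decide +kernel

theorem chk_mem_52 : allR 31200 600 (fun q => memOK q) = true := by decide +kernel

theorem chk_mem_53 : allR 31800 600 (fun q => memOK q) = true := by decide +kernel

theorem chk_mem_54 : allR 32400 600 (fun q => memOK q) = true := by decide +kernel

theorem chk_mem_55 : allR 33000 600 (fun q => memOK q) = true := by decide +kernel

theorem chk_mem_56 : allR 33600 600 (fun q => memOK q) = true := by decide +kernel

theorem chk_mem_57 : allR 34200 600 (fun q => memOK q) = true := by decide +kernel

theorem chk_mem_58 : allR 34800 600 (fun q => memOK q) = true := by decide +kernel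

theorem chk_mem_59 : allR 35400 600 (fun q => memOK q) = true := by decide +kernel


end Cfsg.Agent.Co1P
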