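import Cfsg.Agent.Lib.Lead.Co1P.Def

/-! # The first Conway group on 98280 points: the representatives are minimal vectors of the lattice, slices (generated) -/

set_option autoImplicit false
set_option Elab.async false
set_option maxRecDepth 100000

namespace Cfsg.Agent.Co1P

open Cfsg.Agent.PF Cfsg.Agent.Lib.Helper6 Cfsg.Agent.Lib.Helper6.TC Cfsg.Agent.Lib.Helper6.NatArr

theorem chk_mem_60 : allR 36000 600 (fun q => memOK q) = true := by decide +kernel

theorem chk_mem_61 : allR 36600 600 (fun q => memOK q) = true := by decide +kernel

theorem chk_mem_62 : allR 37200 600 (fun q => memOK q) = true := by decide +kernel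

theorem chk_mem_63 : allR 37800 600 (fun q => memOK q) = true := by decide +kernel

theorem chk_mem_64 : allR 38400 600 (fun q => memOK q) = true := by decide +kernel

theorem chk_mem_65 : allR 39000 600 (fun q => memOK q) = true := by decide +kernel

theorem chk_mem_66 : allR 39600 600 (fun q => memOK q) = true := by decide +kernel

theorem chk_mem_67 : allR 40200 600 (fun q => memOK q) = true := by decide +kernel

theorem chk_mem_68 : allR 40800 600 (fun q => memOK q) = true := by decide +kernel

theorem chk_mem_69 : allR 41400 600 (fun q => memOK q) = true := by decide +kernel

theorem chk_mem_70 : allR 42000 600 (fun q => memOK q) = true := by decide +kernel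

theorem chk_mem_71 : allR 42600 600 (fun q => memOK q) = true := by decide +kernel


end Cfsg.Agent.Co1P
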