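import Cfsg.Agent.Lib.Lead.Co1P.Def

/-! # The first Conway group on 98280 points: the representatives are minimal vectors of the lattice, slices (generated) -/

set_option autoImplicit false
set_option Elab.async false
set_option maxRecDepth 100000

namespace Cfsg.Agent.Co1P

open Cfsg.Agent.PF Cfsg.Agent.Lib.Helper6 Cfsg.Agent.Lib.Helper6.TC Cfsg.Agent.Lib.Helper6.NatArr

theorem chk_mem_72 : allR 43200 600 (fun q => memOK q) = true := by decide +kernel

theorem chk_mem_73 : allR 43800 600 (fun q => memOK q) = true := by decide +kernel

theorem chk_mem_74 : allR 44400 600 (fun q => memOK q) = true := by decide +kernel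

theorem chk_mem_75 : allR 45000 600 (fun q => memOK q) = true := by decide +kernel

theorem chk_mem_76 : allR 45600 600 (fun q => memOK q) = true := by decide +kernel

theorem chk_mem_77 : allR 46200 600 (fun q => memOK q) = true := by decide +kernel

theorem chk_mem_78 : allR 46800 600 (fun q => memOK q) = true := by decide +kernel

theorem chk_mem_79 : allR 47400 600 (fun q => memOK q) = true := by decide +kernel

theorem chk_mem_80 : allR 48000 600 (fun q => memOK q) = true := by decide +kernel

theorem chk_mem_81 : allR 48600 600 (fun q => memOK q) = true := by decide +kernel

theorem chk_mem_82 : allR 49200 600 (fun q => memOK q) = true := by decide +kernel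

theorem chk_mem_83 : allR 49800 600 (fun q => memOK q) = true := by decide +kernel


end Cfsg.Agent.Co1P
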