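import Cfsg.Agent.Lib.Lead.Co1P.Def

/-! # The first Conway group on 98280 points: the representatives are minimal vectors of the lattice, slices (generated) -/

set_option autoImplicit false
set_option Elab.async false
set_option maxRecDepth 100000

namespace Cfsg.Agent.Co1P

open Cfsg.Agent.PF Cfsg.Agent.Lib.Helper6 Cfsg.Agent.Lib.Helper6.TC Cfsg.Agent.Lib.Helper6.NatArr

theorem chk_mem_84 : allR 50400 600 (fun q => memOK q) = true := by decide +kernel

theorem chk_mem_85 : allR 51000 600 (fun q => memOK q) = true := by decide +kernel

theorem chk_mem_86 : allR 51600 600 (fun q => memOK q) = true := by decide +kernel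

theorem chk_mem_87 : allR 52200 600 (fun q => memOK q) = true := by decide +kernel

theorem chk_mem_88 : allR 52800 600 (fun q => memOK q) = true := by decide +kernel

theorem chk_mem_89 : allR 53400 600 (fun q => memOK q) = true := by decide +kernel

theorem chk_mem_90 : allR 54000 600 (fun q => memOK q) = true := by decide +kernel

theorem chk_mem_91 : allR 54600 600 (fun q => memOK q) = true := by decide +kernel

theorem chk_mem_92 : allR 55200 600 (fun q => memOK q) = true := by decide +kernel

theorem chk_mem_93 : allR 55800 600 (fun q => memOK q) = true := by decide +kernel

theorem chk_mem_94 : allR 56400 600 (fun q => memOK q) = true := by decide +kernel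

theorem chk_mem_95 : allR 57000 600 (fun q => memOK q) = true := by decide +kernel


end Cfsg.Agent.Co1P
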