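import Cfsg.Agent.Lib.Lead.Co1P.Def

/-! # The first Conway group on 98280 points: the representatives are minimal vectors of the lattice, slices (generated) -/

set_option autoImplicit false
set_option Elab.async false
set_option maxRecDepth 100000

namespace Cfsg.Agent.Co1P

open Cfsg.Agent.PF Cfsg.Agent.Lib.Helper6 Cfsg.Agent.Lib.Helper6.TC Cfsg.Agent.Lib.Helper6.NatArr

theorem chk_mem_108 : allR 64800 600 (fun q => memOK q) = true := by decide +kernel

theorem chk_mem_109 : allR 65400 600 (fun q => memOK q) = true := by decide +kernel

theorem chk_mem_110 : allR 66000 600 (fun q => memOK q) = true := by decide +kernel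

theorem chk_mem_111 : allR 66600 600 (fun q => memOK q) = true := by decide +kernel

theorem chk_mem_112 : allR 67200 600 (fun q => memOK q) = true := by decide +kernel

theorem chk_mem_113 : allR 67800 600 (fun q => memOK q) = true := by decide +kernel

theorem chk_mem_114 : allR 68400 600 (fun q => memOK q) = true := by decide +kernel

theorem chk_mem_115 : allR 69000 600 (fun q => memOK q) = true := by decide +kernel

theorem chk_mem_116 : allR 69600 600 (fun q => memOK q) = true := by decide +kernel

theorem chk_mem_117 : allR 70200 600 (fun q => memOK q) = true := by decide +kernel

theorem chk_mem_118 : allR 70800 600 (fun q => memOK q) = true := by decide +kernel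

theorem chk_mem_119 : allR 71400 600 (fun q => memOK q) = true := by decide +kernel


end Cfsg.Agent.Co1P
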