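import Cfsg.Agent.Lib.Lead.Co1P.ChkMem_0
import Cfsg.Agent.Lib.Lead.Co1P.ChkMem_1
import Cfsg.Agent.Lib.Lead.Co1P.ChkMem_2
import Cfsg.Agent.Lib.Lead.Co1P.ChkMem_3
import Cfsg.Agent.Lib.Lead.Co1P.ChkMem_4
import Cfsg.Agent.Lib.Lead.Co1P.ChkMem_5
import Cfsg.Agent.Lib.Lead.Co1P.ChkMem_6
import Cfsg.Agent.Lib.Lead.Co1P.ChkMem_7
import Cfsg.Agent.Lib.Lead.Co1P.ChkMem_8
import Cfsg.Agent.Lib.Lead.Co1P.ChkMem_9
import Cfsg.Agent.Lib.Lead.Co1P.ChkMem_10
import Cfsg.Agent.Lib.Lead.Co1P.ChkMem_11
import Cfsg.Agent.Lib.Lead.Co1P.ChkMem_12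
import Cfsg.Agent.Lib.Lead.Co1P.ChkMem_13

/-! # The first Conway group on 98280 points: the representatives are minimal vectors of the lattice (generated) -/

set_option autoImplicit false
set_option maxRecDepth 100000

namespace Cfsg.Agent.Co1P

open Cfsg.Agent.PF Cfsg.Agent.Lib.Helper6 Cfsg.Agent.Lib.Helper6.TC Cfsg.Agent.Lib.Helper6.NatArr

theorem chk_mem : ∀ q < 98280, memOK q = true :=
  forall_lt_of_chunks (f := fun q => memOK q) [(0, 600), (600, 600), (1200, 600), (1800, 600), (2400, 600), (3000, 600), (3600, 600), (4200, 600), (4800, 600), (5400, 600), (6000, 600), (6600, 600), (7200, 600), (7800, 600), (8400, 600), (9000, 600), (9600, 600), (10200, 600), (10800, 600), (11400, 600), (12000, 600), (12600, 600), (13200, 600), (13800, 600), (14400, 600), (15000, 600), (15600, 600), (16200, 600), (16800, 600), (17400, 600), (18000, 600), (18600, 600), (19200, 600), (19800, 600), (20400, 600), (21000, 600), (21600, 600), (22200, 600), (22800, 600), (23400, 600), (24000, 600), (24600, 600), (25200, 600), (25800,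 600), (26400, 600), (27000, 600), (27600, 600), (28200, 600), (28800, 600), (29400, 600), (30000, 600), (30600, 600), (31200, 600), (31800, 600), (32400, 600), (33000, 600), (33600, 600), (34200, 600), (34800, 600), (35400, 600), (36000, 600), (36600, 600), (37200, 600), (37800, 600), (38400, 600), (39000, 600), (39600, 600), (40200, 600), (40800, 600), (41400, 600), (42000, 600), (42600, 600), (43200, 600), (43800, 600), (44400, 600), (45000, 600), (45600, 600), (46200, 600), (46800, 600), (47400, 600), (48000, 600), (48600, 600), (49200, 600), (49800, 600), (50400, 600), (51000, 600), (51600, 600), (52200, 600), (52800, 600), (53400, 600), (54000, 600), (54600, 600), (55200, 600), (55800, 600), (56400, 600), (57000, 600), (57600, 600), (58200, 600), (58800, 600), (59400, 600), (60000, 600), (60600, 600), (61200, 600), (61800, 600), (62400, 600), (63000, 600), (63600, 600), (64200, 600), (64800, 600), (65400, 600), (66000, 600), (66600, 600), (67200, 600), (67800, 600), (68400, 600), (69000, 600), (69600, 600), (70200,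 600), (70800, 600), (71400, 600), (72000, 600), (72600, 600), (73200, 600), (73800, 600), (74400, 600), (75000, 600), (75600, 600), (76200, 600), (76800, 600), (77400, 600), (78000, 600), (78600, 600), (79200, 600), (79800, 600), (80400, 600), (81000, 600), (81600, 600), (82200, 600), (82800, 600), (83400, 600), (84000, 600), (84600, 600), (85200, 600), (85800, 600), (86400, 600), (87000, 600), (87600, 600), (88200, 600), (88800, 600), (89400, 600), (90000, 600), (90600, 600), (91200, 600), (91800, 600), (92400, 600), (93000, 600), (93600, 600), (94200, 600), (94800, 600), (95400, 600), (96000, 600), (96600, 600), (97200, 600), (97800, 480)] (by decide)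
    (all_cons chk_mem_0 (all_cons chk_mem_1 (all_cons chk_mem_2 (all_cons chk_mem_3 (all_cons chk_mem_4 (all_cons chk_mem_5 (all_cons chk_mem_6 (all_cons chk_mem_7 (all_cons chk_mem_8 (all_cons chk_mem_9 (all_cons chk_mem_10 (all_cons chk_mem_11 (all_cons chk_mem_12 (all_cons chk_mem_13 (all_cons chk_mem_14 (all_cons chk_mem_15 (all_cons chk_mem_16 (all_cons chk_mem_17 (all_cons chk_mem_18 (all_cons chk_mem_19 (all_cons chk_mem_20 (all_cons chk_mem_21 (all_cons chk_mem_22 (all_cons chk_mem_23 (all_cons chk_mem_24 (all_cons chk_mem_25 (all_cons chk_mem_26 (all_cons chk_mem_27 (all_cons chk_mem_28 (all_cons chk_mem_29 (all_cons chk_mem_30 (all_cons chk_mem_31 (all_cons chk_mem_32 (all_cons chk_mem_33 (all_cons chk_mem_34 (all_cons chk_mem_35 (all_cons chk_mem_36 (all_cons chk_mem_37 (all_cons chk_mem_38 (all_cons chk_mem_39 (all_cons chk_mem_40 (all_cons chk_mem_41 (all_cons chk_mem_42 (all_cons chk_mem_43 (all_cons chk_mem_44 (all_cons chk_mem_45 (all_cons chk_mem_46 (all_cons chk_mem_47 (all_cons chk_mem_48 (all_cons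 chk_mem_49 (all_cons chk_mem_50 (all_cons chk_mem_51 (all_cons chk_mem_52 (all_cons chk_mem_53 (all_cons chk_mem_54 (all_cons chk_mem_55 (all_cons chk_mem_56 (all_cons chk_mem_57 (all_cons chk_mem_58 (all_cons chk_mem_59 (all_cons chk_mem_60 (all_cons chk_mem_61 (all_cons chk_mem_62 (all_cons chk_mem_63 (all_cons chk_mem_64 (all_cons chk_mem_65 (all_cons chk_mem_66 (all_cons chk_mem_67 (all_cons chk_mem_68 (all_cons chk_mem_69 (all_cons chk_mem_70 (all_cons chk_mem_71 (all_cons chk_mem_72 (all_cons chk_mem_73 (all_cons chk_mem_74 (all_cons chk_mem_75 (all_cons chk_mem_76 (all_cons chk_mem_77 (all_cons chk_mem_78 (all_cons chk_mem_79 (all_cons chk_mem_80 (all_cons chk_mem_81 (all_cons chk_mem_82 (all_cons chk_mem_83 (all_cons chk_mem_84 (all_cons chk_mem_85 (all_cons chk_mem_86 (all_cons chk_mem_87 (all_cons chk_mem_88 (all_cons chk_mem_89 (all_cons chk_mem_90 (all_cons chk_mem_91 (all_cons chk_mem_92 (all_cons chk_mem_93 (all_cons chk_mem_94 (all_cons chk_mem_95 (all_cons chk_mem_96 (all_cons chk_mem_97 (all_cons chk_mem_98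 (all_cons chk_mem_99 (all_cons chk_mem_100 (all_cons chk_mem_101 (all_cons chk_mem_102 (all_cons chk_mem_103 (all_cons chk_mem_104 (all_cons chk_mem_105 (all_cons chk_mem_106 (all_cons chk_mem_107 (all_cons chk_mem_108 (all_cons chk_mem_109 (all_cons chk_mem_110 (all_cons chk_mem_111 (all_cons chk_mem_112 (all_cons chk_mem_113 (all_cons chk_mem_114 (all_cons chk_mem_115 (all_cons chk_mem_116 (all_cons chk_mem_117 (all_cons chk_mem_118 (all_cons chk_mem_119 (all_cons chk_mem_120 (all_cons chk_mem_121 (all_cons chk_mem_122 (all_cons chk_mem_123 (all_cons chk_mem_124 (all_cons chk_mem_125 (all_cons chk_mem_126 (all_cons chk_mem_127 (all_cons chk_mem_128 (all_cons chk_mem_129 (all_cons chk_mem_130 (all_cons chk_mem_131 (all_cons chk_mem_132 (all_cons chk_mem_133 (all_cons chk_mem_134 (all_cons chk_mem_135 (all_cons chk_mem_136 (all_cons chk_mem_137 (all_cons chk_mem_138 (all_cons chk_mem_139 (all_cons chk_mem_140 (all_cons chk_mem_141 (all_cons chk_mem_142 (all_cons chk_mem_143 (all_cons chk_mem_144 (all_cons chk_mem_145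 (all_cons chk_mem_146 (all_cons chk_mem_147 (all_cons chk_mem_148 (all_cons chk_mem_149 (all_cons chk_mem_150 (all_cons chk_mem_151 (all_cons chk_mem_152 (all_cons chk_mem_153 (all_cons chk_mem_154 (all_cons chk_mem_155 (all_cons chk_mem_156 (all_cons chk_mem_157 (all_cons chk_mem_158 (all_cons chk_mem_159 (all_cons chk_mem_160 (all_cons chk_mem_161 (all_cons chk_mem_162 (all_cons chk_mem_163 all_nil))))))))))))))))))))))))))))))))))))))))))))))))))))))))))))))))))))))))))))))))))))))))))))))))))))))))))))))))))))))))))))))))))))))))))))))))))))))))))))))))))))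

end Cfsg.Agent.Co1P
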