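import Cfsg.Agent.Lib.Lead.Co1P.Def

/-! # The first Conway group on 98280 points: the representatives are minimal vectors of the lattice, slices (generated) -/

set_option autoImplicit false
set_option Elab.async false
set_option maxRecDepth 100000

namespace Cfsg.Agent.Co1P

open Cfsg.Agent.PF Cfsg.Agent.Lib.Helper6 Cfsg.Agent.Lib.Helper6.TC Cfsg.Agent.Lib.Helper6.NatArr

theorem chk_mem_0 : allR 0 600 (fun q => memOK q) = true := by decide +kernel

theorem chk_mem_1 : allR 600 600 (fun q => memOK q) = true := by decide +kernel

theorem chk_mem_2 : allR 1200 600 (fun q => memOK q) = true := by decide +kernel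

theorem chk_mem_3 : allR 1800 600 (fun q => memOK q) = true := by decide +kernel

theorem chk_mem_4 : allR 2400 600 (fun q => memOK q) = true := by decide +kernel

theorem chk_mem_5 : allR 3000 600 (fun q => memOK q) = true := by decide +kernel

theorem chk_mem_6 : allR 3600 600 (fun q => memOK q) = true := by decide +kernel

theorem chk_mem_7 : allR 4200 600 (fun q => memOK q) = true := by decide +kernel

theorem chk_mem_8 : allR 4800 600 (fun q => memOK q) = true := by decide +kernel

theorem chk_mem_9 : allR 5400 600 (fun q => memOK q) = true := by decide +kernel

theorem chk_mem_10 : allR 6000 600 (fun q => memOK q) = true := by decide +kernel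

theorem chk_mem_11 : allR 6600 600 (fun q => memOK q) = true := by decide +kernel


end Cfsg.Agent.Co1P
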