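import Cfsg.Agent.Lib.Lead.Co1P.Def

/-! # The first Conway group on 98280 points: the representatives are minimal vectors of the lattice, slices (generated) -/

set_option autoImplicit false
set_option Elab.async false
set_option maxRecDepth 100000

namespace Cfsg.Agent.Co1P

open Cfsg.Agent.PF Cfsg.Agent.Lib.Helper6 Cfsg.Agent.Lib.Helper6.TC Cfsg.Agent.Lib.Helper6.NatArr

theorem chk_mem_144 : allR 86400 600 (fun q => memOK q) = true := by decide +kernel

theorem chk_mem_145 : allR 87000 600 (fun q => memOK q) = true := by decide +kernel

theorem chk_mem_146 : allR 87600 600 (fun q => memOK q) = true := by decide +kernel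

theorem chk_mem_147 : allR 88200 600 (fun q => memOK q) = true := by decide +kernel

theorem chk_mem_148 : allR 88800 600 (fun q => memOK q) = true := by decide +kernel

theorem chk_mem_149 : allR 89400 600 (fun q => memOK q) = true := by decide +kernel

theorem chk_mem_150 : allR 90000 600 (fun q => memOK q) = true := by decide +kernel

theorem chk_mem_151 : allR 90600 600 (fun q => memOK q) = true := by decide +kernel

theorem chk_mem_152 : allR 91200 600 (fun q => memOK q) = true := by decide +kernel

theorem chk_mem_153 : allR 91800 600 (fun q => memOK q) = true := by decide +kernel

theorem chk_mem_154 : allR 92400 600 (fun q => memOK q) = true := by decide +kernel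

theorem chk_mem_155 : allR 93000 600 (fun q => memOK q) = true := by decide +kernel


end Cfsg.Agent.Co1P
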