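import Cfsg.Agent.Lib.Lead.Co1P.Def

/-! # The first Conway group on 98280 points: the action of the change of signs on an octad, slices (generated) -/

set_option autoImplicit false
set_option Elab.async false
set_option maxRecDepth 100000

namespace Cfsg.Agent.Co1P

open Cfsg.Agent.PF Cfsg.Agent.Lib.Helper6 Cfsg.Agent.Lib.Helper6.TC Cfsg.Agent.Lib.Helper6.NatArr

theorem chk_actS_0 : allR 0 2979 (fun q => actOK wS flS q) = true := by decide +kernel

theorem chk_actS_1 : allR 2979 2979 (fun q => actOK wS flS q) = true := by decide +kernel

theorem chk_actS_2 : allR 5958 2979 (fun q => actOK wS flS q) = true := by decide +kernel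

theorem chk_actS_3 : allR 8937 2979 (fun q => actOK wS flS q) = true := by decide +kernel

theorem chk_actS_4 : allR 11916 2979 (fun q => actOK wS flS q) = true := by decide +kernel

theorem chk_actS_5 : allR 14895 2979 (fun q => actOK wS flS q) = true := by decide +kernel

theorem chk_actS_6 : allR 17874 2979 (fun q => actOK wS flS q) = true := by decide +kernel

theorem chk_actS_7 : allR 20853 2979 (fun q => actOK wS flS q) = true := by decide +kernel

theorem chk_actS_8 : allR 23832 2979 (fun q => actOK wS flS q) = true := by decide +kernel

theorem chk_actS_9 : allR 26811 2979 (fun q => actOK wS flS q) = true := by decide +kernel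

theorem chk_actS_10 : allR 29790 2979 (fun q => actOK wS flS q) = true := by decide +kernel

theorem chk_actS_11 : allR 32769 2979 (fun q => actOK wS flS q) = true := by decide +kernel


end Cfsg.Agent.Co1P
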