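import Cfsg.Agent.Lib.Lead.Co1P.Def

/-! # The first Conway group on 98280 points: the action of the letter `ξ`, slices (generated) -/

set_option autoImplicit false
set_option Elab.async false
set_option maxRecDepth 100000

namespace Cfsg.Agent.Co1P

open Cfsg.Agent.PF Cfsg.Agent.Lib.Helper6 Cfsg.Agent.Lib.Helper6.TC Cfsg.Agent.Lib.Helper6.NatArr

theorem chk_actX_0 : allR 0 800 (fun q => actOK wX flX q) = true := by decide +kernel

theorem chk_actX_1 : allR 800 800 (fun q => actOK wX flX q) = true := by decide +kernel

theorem chk_actX_2 : allR 1600 800 (fun q => actOK wX flX q) = true := by decide +kernel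

theorem chk_actX_3 : allR 2400 800 (fun q => actOK wX flX q) = true := by decide +kernel

theorem chk_actX_4 : allR 3200 800 (fun q => actOK wX flX q) = true := by decide +kernel

theorem chk_actX_5 : allR 4000 800 (fun q => actOK wX flX q) = true := by decide +kernel

theorem chk_actX_6 : allR 4800 800 (fun q => actOK wX flX q) = true := by decide +kernel

theorem chk_actX_7 : allR 5600 800 (fun q => actOK wX flX q) = true := by decide +kernel

theorem chk_actX_8 : allR 6400 800 (fun q => actOK wX flX q) = true := by decide +kernel

theorem chk_actX_9 : allR 7200 800 (fun q => actOK wX flX q) = true := by decide +kernel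

theorem chk_actX_10 : allR 8000 800 (fun q => actOK wX flX q) = true := by decide +kernel

theorem chk_actX_11 : allR 8800 800 (fun q => actOK wX flX q) = true := by decide +kernel


end Cfsg.Agent.Co1P
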