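import Cfsg.Agent.Lib.Lead.Co1P.PtD
import Cfsg.Agent.Lib.Lead.Co1P.LAD
import Cfsg.Agent.Lib.Lead.Co1P.LGD
import Cfsg.Agent.Lib.Lead.Co1P.LDD
import Cfsg.Agent.Lib.Lead.Co1P.LSD
import Cfsg.Agent.Lib.Lead.Co1P.LXD
import Cfsg.Agent.Lib.Helper6.LeechCo1

/-!
# The first Conway group on 98280 points: the checks of the action on the lattice

The points are the pairs `{v, -v}` of minimal vectors of the lattice; each pair is represented by the vector with a
positive value of a fixed linear form, packed in a number; the representatives are listed in the order of their keys.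
Five letters (three generators of the Mathieu group acting on the coordinates, the change of signs on an octad and the
element `ξ`) act on the pairs by tables.
-/

set_option autoImplicit false

namespace Cfsg.Agent.Co1P

open Cfsg Cfsg.Agent.Lib.Helper6.Leech Cfsg.Agent.Lib.Helper6.Golay
open Cfsg.Agent.Lib.Helper6.TC (force force_eq)

/-- evaluate the integer before going on -/
noncomputable def forceI {α : Type} (a : ℤ) (k : ℤ → α) : α :=
  Int.rec (motive := fun _ => α) (fun m => force m fun m' => k (Int.ofNat m'))
    (fun m => force m fun m' => k (Int.negSucc m')) a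

theorem forceI_eq {α : Type} (a : ℤ) (k : ℤ → α) : forceI a k = k a := by
  cases a with
  | ofNat m => show force m (fun m' => k (Int.ofNat m')) = _; rw [force_eq]
  | negSucc m => show force m (fun m' => k (Int.negSucc m')) = _; rw [force_eq]

/-- evaluate the entries of the list before going on -/
noncomputable def forceL {α : Type} (l : List ℤ) : (List ℤ → α) → α :=
  List.rec (motive := fun _ => (List ℤ → α) → α) (fun k => k [])
    (fun a _ ih k => forceI a fun a' => ih fun l' => k (a' :: l')) l

theorem forceL_eq {α : Type} (l : List ℤ) (k : List ℤ → α) : forceL l k = k l := by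
  induction l generalizing k with
  | nil => rfl
  | cons a l ih =>
    show forceI a (fun a' => forceL l fun l' => k (a' :: l')) = _
    rw [forceI_eq, ih]

/-- the `i`-th representative vector -/
noncomputable def pv (i : ℕ) : List ℤ :=
  Cfsg.Agent.PG.strict (pvN i) fun c => (List.range 24).map fun j => dig c j

/-- the opposite of a coordinate list -/
def negL (x : List ℤ) : List ℤ := (List.range 24).map fun i => -x.getD i 0

/-- a key of a coordinate list -/
def keyL (x : List ℤ) : ℕ := x.foldr (fun a acc => Nat.add (Int.toNat (a + 8)) (Nat.mul 16 acc)) 0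

/-- the coefficients of a linear form that vanishes at no minimal vector -/
def cL : List ℤ := [1, 9, 81, 729, 6561, 59049, 531441, 4782969, 43046721, 387420489, 3486784401, 31381059609, 282429536481, 2541865828329, 22876792454961, 205891132094649, 1853020188851841, 16677181699666569, 150094635296999121, 1350851717672992089, 12157665459056928801, 109418989131512359209, 984770902183611232881, 8862938119652501095929]

/-- the `i`-th representative is a minimal vector of the lattice, at which the linear form is positive -/
noncomputable def memOK (i : ℕ) : Bool :=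
  forceL (pv i) fun l => inLeechL l && (normL l == 32) && decide (0 < dotL cL l)

/-- the keys of the representatives `i` and `i + 1` are in order -/
noncomputable def incrOK (i : ℕ) : Bool :=
  forceL (pv i) fun l => forceL (pv (i + 1)) fun l' => Nat.blt (keyL l) (keyL l')

/-- the image is the expected vector or its opposite -/
def eqOrNeg (y z : List ℤ) : Bool := (y == z) || (y == negL z)

/-- the word `w` maps the `i`-th pair to the pair number `f i` -/
noncomputable def actOK (w : List Prim) (f : ℕ → ℕ) (i : ℕ) : Bool :=
  force (f i) fun j => Nat.blt j 98280 &&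
    forceL (pv i) fun l => forceL (pv j) fun l' => forceL (actW w l) fun y => eqOrNeg y l'

theorem memOK_iff (i : ℕ) : memOK i = true ↔
    inLeechL (pv i) = true ∧ normL (pv i) = 32 ∧ 0 < dotL cL (pv i) := by
  rw [memOK, forceL_eq, Bool.and_eq_true, Bool.and_eq_true, beq_iff_eq, decide_eq_true_eq, and_assoc]

theorem incrOK_iff (i : ℕ) : incrOK i = true ↔ keyL (pv i) < keyL (pv (i + 1)) := by
  rw [incrOK, forceL_eq, forceL_eq]
  simp [Nat.blt]

theorem actOK_iff (w : List Prim) (f : ℕ → ℕ) (i : ℕ) : actOK w f i = true ↔
    f i < 98280 ∧ (actW w (pv i) = pv (f i) ∨ actW w (pv i) = negL (pv (f i))) := by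
  rw [actOK, force_eq, forceL_eq, forceL_eq, forceL_eq, Bool.and_eq_true, eqOrNeg, Bool.or_eq_true, beq_iff_eq,
    beq_iff_eq]
  constructor
  · rintro ⟨h1, h2⟩; exact ⟨by simpa [Nat.blt] using h1, h2⟩
  · rintro ⟨h1, h2⟩; exact ⟨by simpa [Nat.blt] using h1, h2⟩

/-- the word of the letter `α` -/
def wA : List Prim := [.perm alphaL]
/-- the word of the letter `γ` -/
def wG : List Prim := [.perm gammaL]
/-- the word of the letter `δ` -/
def wD : List Prim := [.perm deltaL]
/-- the word of the change of signs on an octad -/
def wS : List Prim := [.sign 13062145]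
/-- the word of the letter `ξ` -/
def wX : List Prim := [.xi]

end Cfsg.Agent.Co1P
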